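import Groth.Agent.Calg6.KoszulTor
import Groth.Agent.KoszulLCI.Seq
import Groth.Agent.FrobLCI.KEuler.Basic
import Mathlib.LinearAlgebra.ExteriorPower.Basis

/-!
`Tor_i(A/(f,g), A/(f,h))` for an excess intersection of Koszul-regular sequences is a free module over
`A/(f,g,h)`; exterior powers of such free modules.
-/

set_option autoImplicit false

universe u

open CategoryTheory CategoryTheory.Limits

namespace Groth.ExcessTor

variable {A : Type u} [CommRing A]

/-- The module is free of rank `m` over `A ⧸ J`, as an `A`-module. -/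
def IsFreeQuot (J : Ideal A) (m : ℕ) (N : Type u) [AddCommGroup N] [Module A N] : Prop :=
  Nonempty (N ≃ₗ[A] (Fin m → A ⧸ J))

theorem IsFreeQuot.congr {J : Ideal A} {m : ℕ} {N N' : Type u} [AddCommGroup N] [Module A N]
    [AddCommGroup N'] [Module A N'] (h : IsFreeQuot J m N) (e : N ≃ₗ[A] N') : IsFreeQuot J m N' :=
  h.map fun e' => e.symm ≪≫ₗ e'

/-- A map out of a free `A ⧸ J`-module with prescribed values on the basis. -/
theorem exists_lift_basis {J : Ideal A} {N : Type u} [AddCommGroup N] [Module A N]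
    (hN : ∀ a ∈ J, ∀ x : N, a • x = 0) {ι : Type*} [Fintype ι] [DecidableEq ι] (v : ι → N) :
    ∃ φ : (ι → A ⧸ J) →ₗ[A] N, ∀ i, φ (Pi.single i (Ideal.Quotient.mk J 1)) = v i := by
  let ψ : ι → ((A ⧸ J) →ₗ[A] N) := fun i =>
    Submodule.liftQ J (LinearMap.toSpanSingleton A N (v i)) fun a ha => hN a ha (v i)
  refine ⟨∑ i, (ψ i).comp (LinearMap.proj i), fun i => ?_⟩
  rw [LinearMap.sum_apply, Finset.sum_eq_single i]
  · simp only [LinearMap.comp_apply, LinearMap.proj_apply, Pi.single_eq_same]
    change Submodule.liftQ J (LinearMap.toSpanSingleton A N (v i)) _ (Submodule.Quotient.mk 1) = v i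
    rw [Submodule.liftQ_apply, LinearMap.toSpanSingleton_apply, one_smul]
  · intro j _ hj
    simp [Pi.single_eq_of_ne hj]
  · simp

theorem ext_basis {J : Ideal A} {N : Type u} [AddCommGroup N] [Module A N] {ι : Type*} [Fintype ι]
    [DecidableEq ι] {f g : (ι → A ⧸ J) →ₗ[A] N}
    (h : ∀ i, f (Pi.single i (Ideal.Quotient.mk J 1)) = g (Pi.single i (Ideal.Quotient.mk J 1))) :
    f = g := by
  refine LinearMap.pi_ext fun i x => ?_
  obtain ⟨a, rfl⟩ := Ideal.Quotient.mk_surjective x
  have : (Pi.single i (Ideal.Quotient.mk J a) : ι → A ⧸ J) =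
      a • Pi.single i (Ideal.Quotient.mk J 1) := by
    rw [← Pi.single_smul]
    congr 1
    rw [Algebra.smul_def, map_one, mul_one]
    rfl
  rw [this, map_smul, map_smul, h]

/-- An extension of free `A ⧸ J`-modules killed by `J` is free. -/
theorem isFreeQuot_extension {J : Ideal A} {p q : ℕ} {X N Z : Type u} [AddCommGroup X] [Module A X]
    [AddCommGroup N] [Module A N] [AddCommGroup Z] [Module A Z]
    (hN : ∀ a ∈ J, ∀ x : N, a • x = 0) (ι : X →ₗ[A] N) (π : N →ₗ[A] Z)
    (hι : Function.Injective ι) (hex : Function.Exact ι π) (hπ : Function.Surjective π)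
    (hX : IsFreeQuot J p X) (hZ : IsFreeQuot J q Z) : IsFreeQuot J (p + q) N := by
  obtain ⟨eX⟩ := hX
  obtain ⟨eZ⟩ := hZ
  choose v hv using fun i : Fin q => hπ (eZ.symm (Pi.single i (Ideal.Quotient.mk J 1)))
  obtain ⟨s, hs⟩ := exists_lift_basis hN v
  have hsec : π ∘ₗ (s ∘ₗ eZ.toLinearMap) = LinearMap.id := by
    have h1 : π ∘ₗ s = eZ.symm.toLinearMap := ext_basis fun i => by
      rw [LinearMap.comp_apply, hs, hv]; rfl
    rw [← LinearMap.comp_assoc, h1]
    ext z; simp
  obtain ⟨e, -⟩ := hex.splitSurjectiveEquiv hι ⟨s ∘ₗ eZ.toLinearMap, hsec⟩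
  exact ⟨e ≪≫ₗ (eX.prodCongr eZ) ≪≫ₗ (LinearEquiv.sumArrowLequivProdArrow (Fin p) (Fin q) A (A ⧸ J)).symm
    ≪≫ₗ LinearEquiv.funCongrLeft A (A ⧸ J) finSumFinEquiv.symm⟩

theorem isFreeQuot_zero {J : Ideal A} {N : Type u} [AddCommGroup N] [Module A N] [Subsingleton N] :
    IsFreeQuot J 0 N :=
  ⟨LinearEquiv.ofSubsingleton N (Fin 0 → A ⧸ J)⟩

/-- Exterior powers of positive degree are killed by every ideal killing the module. -/
theorem smul_extPow_eq_zero {N : Type u} [AddCommGroup N] [Module A N] (a : A) (ha : ∀ x : N, a • x = 0)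
    {i : ℕ} (hi : i ≠ 0) (x : ↥(⋀[A]^i N)) : a • x = 0 := by
  have : (a • LinearMap.id : ↥(⋀[A]^i N) →ₗ[A] ↥(⋀[A]^i N)) = 0 := by
    apply LinearMap.ext_on_range (exteriorPower.ιMulti_span A i N)
    intro v
    obtain ⟨j, rfl⟩ : ∃ j, i = j + 1 := ⟨i - 1, by omega⟩
    rw [LinearMap.smul_apply, LinearMap.id_apply, LinearMap.zero_apply]
    conv_lhs => rw [← Function.update_eq_self 0 v, ← AlternatingMap.map_update_smul, ha]
    exact AlternatingMap.map_update_zero _ _ _
  exact LinearMap.congr_fun this x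

/-- Exterior powers of a free `A ⧸ J`-module. -/
theorem isFreeQuot_extPow {J : Ideal A} {r i : ℕ} (hi : i ≠ 0) :
    IsFreeQuot J (r.choose i) ↥(⋀[A]^i (Fin r → A ⧸ J)) := by
  classical
  let b : Module.Basis (Fin r) A (Fin r → A) := Pi.basisFun A (Fin r)
  let b' : Module.Basis (Fin r) (A ⧸ J) (Fin r → A ⧸ J) := Pi.basisFun (A ⧸ J) (Fin r)
  let π : (Fin r → A) →ₗ[A] (Fin r → A ⧸ J) := (Submodule.mkQ J).compLeft (Fin r)
  have hπ : Function.Surjective π := Function.Surjective.comp_left (Submodule.mkQ_surjective J)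
  have hb : (π ∘ b : Fin r → (Fin r → A ⧸ J)) = b' := by
    funext j k
    simp only [Function.comp_apply, π, b, b', Pi.basisFun_apply, LinearMap.compLeft_apply]
    by_cases h : k = j
    · subst h; simp
    · simp [Pi.single_eq_of_ne h]
  let c := b'.exteriorPower i
  have hJ : ∀ a ∈ J, ∀ x : ↥(⋀[A]^i (Fin r → A ⧸ J)), a • x = 0 := fun a ha x =>
    smul_extPow_eq_zero a (fun y => funext fun k => by
      obtain ⟨z, hz⟩ := Ideal.Quotient.mk_surjective (y k)
      rw [Pi.smul_apply, ← hz, Pi.zero_apply, Algebra.smul_def, Ideal.Quotient.algebraMap_eq,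
        ← map_mul, Ideal.Quotient.eq_zero_iff_mem]
      exact J.mul_mem_right _ ha) hi x
  obtain ⟨ψ, hψ⟩ := exists_lift_basis hJ
    (fun S : Set.powersetCard (Fin r) i => exteriorPower.ιMulti_family A i (b' : Fin r → _) S)
  have hsurj : Function.Surjective ψ := by
    rw [← LinearMap.range_eq_top, eq_top_iff]
    have hle : Submodule.span A (Set.range (exteriorPower.ιMulti_family A i
        (b' : Fin r → (Fin r → A ⧸ J)))) ≤ LinearMap.range ψ :=
      Submodule.span_le.2 (Set.range_subset_iff.2 fun S => ⟨_, hψ S⟩)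
    refine le_trans ?_ hle
    rw [← hb, ← exteriorPower.map_comp_ιMulti_family, Set.range_comp, Submodule.span_image]
    rw [← exteriorPower.coe_basis, Module.Basis.span_eq, Submodule.map_top,
      LinearMap.range_eq_top.2 (exteriorPower.map_surjective hπ)]
  let ρ : ↥(⋀[A]^i (Fin r → A ⧸ J)) →ₗ[A] ↥(⋀[A ⧸ J]^i (Fin r → A ⧸ J)) :=
    exteriorPower.alternatingMapLinearEquiv
      { toMultilinearMap := (exteriorPower.ιMulti (A ⧸ J) i).toMultilinearMap.restrictScalars A
        map_eq_zero_of_eq' := (exteriorPower.ιMulti (A ⧸ J) i).map_eq_zero_of_eq' }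
  let coord : ↥(⋀[A]^i (Fin r → A ⧸ J)) →ₗ[A] (Set.powersetCard (Fin r) i → A ⧸ J) :=
    (c.equivFun.toLinearMap.restrictScalars A) ∘ₗ ρ
  have hinj : Function.Injective ψ := by
    have : coord ∘ₗ ψ = LinearMap.id := ext_basis fun S => by
      rw [LinearMap.comp_apply, hψ, LinearMap.id_apply]
      change c.equivFun (ρ (exteriorPower.ιMulti A i _)) = _
      rw [exteriorPower.alternatingMapLinearEquiv_apply_ιMulti]
      change c.equivFun (exteriorPower.ιMulti_family (A ⧸ J) i b' S) = _
      rw [← exteriorPower.basis_apply]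
      funext T
      change c.equivFun (c S) T = _
      rw [Module.Basis.equivFun_self, map_one, Pi.single_apply]
      simp only [eq_comm]
    exact Function.LeftInverse.injective (g := coord) (LinearMap.congr_fun this)
  have hcard : Fintype.card (Set.powersetCard (Fin r) i) = r.choose i := by
    rw [← Nat.card_eq_fintype_card, Set.powersetCard.card, Nat.card_fin]
  exact ⟨(LinearEquiv.ofBijective ψ ⟨hinj, hsurj⟩).symm ≪≫ₗ
    LinearEquiv.funCongrLeft A (A ⧸ J) (Fintype.equivFinOfCardEq hcard).symm⟩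

/-! ### Koszul homology -/

open Groth.KoszulCone Groth.KoszulReg

theorem koszulCx_eq_kz (M : ModuleCat.{u} A) : ∀ l : List A, CohIII.koszulCx M l =
    kz ((HomologicalComplex.single (ModuleCat.{u} A) (ComplexShape.up ℤ) 0).obj M) l
  | [] => rfl
  | f :: l => congrArg (fun K : CochainComplex (ModuleCat.{u} A) ℤ => CochainComplex.mappingCone (f • 𝟙 K))
      (koszulCx_eq_kz M l)

variable (g h : List A)

theorem nonempty_koszul_quot_iso (hh : LCI.IsKoszulRegularSeq A h) (i : ℤ) :
    Nonempty ((CohIII.koszulCx (ModuleCat.of A (A ⧸ Ideal.ofList h)) g).homology i ≅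
      (Koszul.koszul A (g ++ h)).homology i) := by
  have := quasiIso_aug h hh
  have hq := quasiIso_kzMap (aug h) g
  have : IsIso (HomologicalComplex.homologyMap (kzMap (aug h) g) i) :=
    (quasiIsoAt_iff_isIso_homologyMap _ i).mp (hq.quasiIsoAt i)
  exact ⟨(HomologicalComplex.homologyFunctor _ _ i).mapIso (eqToIso (koszulCx_eq_kz _ g)) ≪≫
    (@asIso _ _ _ _ (HomologicalComplex.homologyMap (kzMap (aug h) g) i) this).symm ≪≫
    (HomologicalComplex.homologyFunctor _ _ i).mapIso (eqToIso (koszul_append h g).symm)⟩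

theorem isFreeQuot_koszul_base (hh : LCI.IsKoszulRegularSeq A h)
    (hgh : LCI.IsKoszulRegularSeq A (g ++ h)) (i : ℕ) :
    IsFreeQuot (Ideal.ofList (g ++ h)) (Nat.choose 0 i)
      ((CohIII.koszulCx (ModuleCat.of A (A ⧸ Ideal.ofList h)) g).homology (-(i : ℤ))) := by
  rcases i with - | i
  · obtain ⟨e⟩ := nonempty_koszul_quot_iso g h hh (-((0 : ℕ) : ℤ))
    refine IsFreeQuot.congr ?_ e.symm.toLinearEquiv
    rw [Nat.cast_zero, neg_zero]
    exact ⟨LinearEquiv.ofBijective _ (bijective_augH (g ++ h)) ≪≫ₗ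
      (LinearEquiv.funUnique (Fin 1) A (A ⧸ Ideal.ofList (g ++ h))).symm⟩
  · obtain ⟨e⟩ := nonempty_koszul_quot_iso g h hh (-((i + 1 : ℕ) : ℤ))
    have := ModuleCat.subsingleton_of_isZero (hgh _ (show -((i + 1 : ℕ) : ℤ) ≠ 0 by omega) |>.of_iso e)
    exact isFreeQuot_zero

theorem isFreeQuot_koszul (hh : LCI.IsKoszulRegularSeq A h)
    (hgh : LCI.IsKoszulRegularSeq A (g ++ h)) :
    ∀ (f : List A), (∀ a ∈ f, a ∈ Ideal.ofList h) → ∀ i : ℕ,
      IsFreeQuot (Ideal.ofList (g ++ h)) (f.length.choose i)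
        ((CohIII.koszulCx (ModuleCat.of A (A ⧸ Ideal.ofList h)) (f ++ g)).homology (-(i : ℤ)))
  | [], _, i => isFreeQuot_koszul_base g h hh hgh i
  | a :: f, hf, i => by
    set M := ModuleCat.of A (A ⧸ Ideal.ofList h)
    have ih := isFreeQuot_koszul hh hgh f (fun b hb => hf b (List.mem_cons_of_mem a hb))
    have hann : ∀ b ∈ Ideal.ofList h, b ∈ Module.annihilator A M := fun b hb =>
      Module.mem_annihilator.2 fun x => by
        obtain ⟨y, rfl⟩ := Submodule.Quotient.mk_surjective _ x
        rw [← Submodule.Quotient.mk_smul, Submodule.Quotient.mk_eq_zero]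
        exact Ideal.mul_mem_right _ _ hb
    have hkill : ∀ (l : List A), (∀ b ∈ g, b ∈ l) → ∀ b ∈ Ideal.ofList (g ++ h), ∀ (j : ℤ)
        (x : (CohIII.koszulCx M l).homology j), b • x = 0 := by
      intro l hl b hb j x
      refine Module.mem_annihilator.1 (Groth.KEuler.annihilator_le l M j ?_) x
      rw [Ideal.ofList_append] at hb
      refine (sup_le ?_ ?_ : Ideal.ofList g ⊔ Ideal.ofList h ≤ Module.annihilator A M ⊔ Ideal.ofList l) hb
      · refine le_sup_of_le_right (Ideal.span_mono fun c hc => ?_)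
        exact hl c hc
      · exact le_sup_of_le_left fun c hc => hann c hc
    let K := CohIII.koszulCx M (f ++ g)
    let φ := a • 𝟙 K
    have ha0 : ∀ (j : ℤ) (x : K.homology j), a • x = 0 := fun j x =>
      Module.mem_annihilator.1 (Groth.KEuler.annihilator_le (f ++ g) M j
        (Ideal.mem_sup_left (hann a (hf a List.mem_cons_self)))) x
    obtain ⟨δ, h1, h2⟩ := cone_exact_delta φ (-(i : ℤ)) (-(i : ℤ) + 1) rfl
    have hinj : Function.Injective (HomologicalComplex.homologyMap
        (CochainComplex.mappingCone.inr φ) (-(i : ℤ))).hom := by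
      refine (injective_iff_map_eq_zero _).2 fun x hx => ?_
      obtain ⟨y, hy⟩ := (cone_exact₂ φ _ x).1 hx
      rw [← hy]
      exact (homologyMap_smul_id_apply a _ y).trans (ha0 _ y)
    have hsurj : Function.Surjective δ := fun x =>
      (h2 x).1 ((homologyMap_smul_id_apply a _ x).trans (ha0 _ x))
    have hkill' : ∀ b ∈ Ideal.ofList (g ++ h), ∀ x : (CochainComplex.mappingCone φ).homology (-(i : ℤ)),
        b • x = 0 := fun b hb x =>
      hkill (a :: (f ++ g)) (fun c hc => List.mem_cons_of_mem _ (List.mem_append_right _ hc)) b hb _ x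
    change IsFreeQuot _ _ ((CochainComplex.mappingCone φ).homology (-(i : ℤ)))
    rcases i with - | i
    · have : Subsingleton (K.homology (-((0 : ℕ) : ℤ) + 1)) :=
        subsingleton_homology_out M (f ++ g) _ (Or.inr (by norm_num))
      have := isFreeQuot_extension hkill' _ δ hinj h1 hsurj (ih 0)
        (isFreeQuot_zero (J := Ideal.ofList (g ++ h)))
      simp only [Nat.choose_zero_right, add_zero] at this ⊢
      exact this
    · have e : -((i + 1 : ℕ) : ℤ) + 1 = -(i : ℤ) := by push_cast; ring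
      have hz : IsFreeQuot (Ideal.ofList (g ++ h)) (f.length.choose i)
          (K.homology (-((i + 1 : ℕ) : ℤ) + 1)) := by
        rw [e]; exact ih i
      have := isFreeQuot_extension hkill' _ δ hinj h1 hsurj (ih (i + 1)) hz
      rw [List.length_cons, Nat.choose_succ_succ, add_comm]
      exact this

/-- The Koszul projective resolution, over any ring. -/
theorem exists_res (l : List A) (hl : LCI.IsKoszulRegularSeq A l) :
    ∃ P : ProjectiveResolution (ModuleCat.of A (A ⧸ Ideal.ofList l)),
      P.complex = (Koszul.koszul A l).restriction ComplexShape.embeddingDownNat := by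
  have hproj : ∀ (l : List A) (i : ℤ), Module.Projective A ((Koszul.koszul A l).X i) := by
    intro l
    induction l with
    | nil =>
      intro i
      by_cases hi : i = 0
      · subst hi
        exact Module.Projective.of_equiv (HomologicalComplex.singleObjXSelf (ComplexShape.up ℤ) (0 : ℤ)
          (ModuleCat.of A A)).toLinearEquiv.symm
      · have hz : IsZero ((Koszul.koszul A []).X i) :=
          HomologicalComplex.isZero_single_obj_X _ _ _ _ hi
        have := ModuleCat.subsingleton_of_isZero hz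
        infer_instance
    | cons f l ih =>
      intro i
      let φ := f • 𝟙 (Koszul.koszul A l)
      have := ih i
      have := ih (i + 1)
      exact Module.Projective.of_equiv ((HomologicalComplex.homotopyCofiber.XIsoBiprod φ i (i + 1)
        (by simp) ≪≫ ModuleCat.biprodIsoProd _ _).toLinearEquiv.symm)
  refine ⟨{
    complex := (Koszul.koszul A l).restriction ComplexShape.embeddingDownNat
    projective := fun n => (IsProjective.iff_projective _).1 (hproj l _)
    π := HomologicalComplex.restrictionMap (Groth.KoszulReg.aug l) ComplexShape.embeddingDownNat ≫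
      (Groth.Calg6.KoszulTor.singleRestrictionIso _).hom
    quasiIso := by
      have := Groth.KoszulReg.quasiIso_aug l hl
      have := Groth.Calg6.KoszulTor.quasiIso_restrictionMap (Groth.KoszulReg.aug l)
        (Groth.KoszulReg.isZero_koszul_X l)
        (fun i hi => HomologicalComplex.isZero_single_obj_X _ _ _ _ hi.ne')
      infer_instance }, rfl⟩

theorem isFreeQuot_tor (f g h : List A) (hfg : LCI.IsKoszulRegularSeq A (f ++ g))
    (hfh : LCI.IsKoszulRegularSeq A (f ++ h)) (hfgh : LCI.IsKoszulRegularSeq A (f ++ g ++ h)) (i : ℕ) :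
    IsFreeQuot (Ideal.ofList (g ++ (f ++ h))) (f.length.choose i)
      (((CategoryTheory.Tor (ModuleCat.{u} A) i).obj (ModuleCat.of A (A ⧸ Ideal.ofList (f ++ g)))).obj
        (ModuleCat.of A (A ⧸ Ideal.ofList (f ++ h)))) := by
  obtain ⟨P, hP⟩ := exists_res (f ++ g) hfg
  have hperm : LCI.IsKoszulRegularSeq A (g ++ (f ++ h)) :=
    Groth.KoszulLCI.isKoszulRegularSeq_of_perm
      (by rw [← List.append_assoc]; exact List.Perm.append_right h List.perm_append_comm) hfgh
  have hfree := isFreeQuot_koszul g (f ++ h) hfh hperm f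
    (fun a ha => Ideal.subset_span (List.mem_append_left _ ha)) i
  set M := ModuleCat.of A (A ⧸ Ideal.ofList (f ++ h))
  obtain ⟨e1⟩ := Groth.HTorLib.tor_iso_homology _ M P i
  obtain ⟨e2⟩ := Groth.KEuler.nonempty_bridge M (f ++ g)
  let e1' := (HomologicalComplex.homologyFunctor _ _ i).mapIso (eqToIso
    (congrArg (((MonoidalCategory.tensorRight M).mapHomologicalComplex (ComplexShape.down ℕ)).obj) hP))
  exact hfree.congr (e1 ≪≫ e1' ≪≫ Groth.Calg6.KoszulTor.homologyIso
    (DRing.tensorCx (Koszul.koszul A (f ++ g)) M)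
      (fun j hj => (MonoidalCategory.tensorRight M).map_isZero (Groth.KoszulReg.isZero_koszul_X _ j hj)) i ≪≫
    (HomologicalComplex.homologyFunctor _ _ _).mapIso e2).symm.toLinearEquiv

end Groth.ExcessTor
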